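import Mathlib

/-! A determinant of closed forms is congruent to its constant part modulo divergences. -/

set_option autoImplicit false
universe u v

open Finset

namespace Groth.Agent.FrobDet31

section Div

variable {k : Type u} [CommRing k] {A : Type v} [CommRing A] [Algebra k A] {n : ℕ}
  (δ : Fin n → Derivation k A A) (Lf : A →ₗ[k] A)

theorem derivation_prod {ι : Type*} [DecidableEq ι] (d : Derivation k A A) (s : Finset ι) (f : ι → A) :
    d (∏ i ∈ s, f i) = ∑ i ∈ s, d (f i) * ∏ j ∈ s.erase i, f j := by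
  induction s using Finset.induction_on with
  | empty => simp
  | insert a s ha ih =>
    rw [Finset.prod_insert ha, d.leibniz, ih, Finset.sum_insert ha, Finset.erase_insert ha, smul_eq_mul, smul_eq_mul,
      add_comm, mul_comm (∏ i ∈ s, f i), Finset.mul_sum]
    congr 1
    refine Finset.sum_congr rfl fun i hi => ?_
    rw [Finset.erase_insert_of_ne (ne_of_mem_of_not_mem hi ha).symm,
      Finset.prod_insert (fun h => ha (Finset.mem_of_mem_erase h))]
    ring

variable (hL : ∀ j x, Lf (δ j x) = 0)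

include hL in
theorem L_det_updateRow_grad (a : Matrix (Fin n) (Fin n) A) (i₀ : Fin n) (f : A)
    (hsym : ∀ i, i ≠ i₀ → ∀ j l, δ j (a i l) = δ l (a i j)) :
    Lf ((a.updateRow i₀ fun j => δ j f).det) = 0 := by
  classical
  rw [Matrix.det_apply']
  have hterm : ∀ σ : Equiv.Perm (Fin n),
      ((Equiv.Perm.sign σ : ℤ) : A) * ∏ i, (a.updateRow i₀ fun j => δ j f) (σ i) i =
      ((Equiv.Perm.sign σ : ℤ) : A) * (δ (σ⁻¹ i₀) f * ∏ i ∈ univ.erase i₀, a i (σ⁻¹ i)) := by
    intro σ
    congr 1
    rw [← Equiv.prod_comp σ⁻¹ fun i => (a.updateRow i₀ fun j => δ j f) (σ i) i,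
      ← Finset.mul_prod_erase univ _ (Finset.mem_univ i₀)]
    rw [show σ (σ⁻¹ i₀) = i₀ from σ.apply_symm_apply i₀, Matrix.updateRow_self]
    congr 1
    exact Finset.prod_congr rfl fun i hi => by
      rw [show σ (σ⁻¹ i) = i from σ.apply_symm_apply i, Matrix.updateRow_ne (Finset.ne_of_mem_erase hi)]
  rw [Finset.sum_congr rfl fun σ _ => hterm σ]
  let P : Equiv.Perm (Fin n) → A := fun σ => ((Equiv.Perm.sign σ : ℤ) : A) * ∏ i ∈ univ.erase i₀, a i (σ⁻¹ i)
  have key : ∑ σ, δ (σ⁻¹ i₀) (P σ) = 0 := by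
    simp only [P, Derivation.leibniz, Derivation.map_intCast, derivation_prod, smul_eq_mul,
      Finset.mul_sum, mul_zero, add_zero]
    rw [Finset.sum_comm]
    refine Finset.sum_eq_zero fun i hi => ?_
    have hne : i ≠ i₀ := Finset.ne_of_mem_erase hi
    refine Finset.sum_involution (fun σ _ => Equiv.swap i₀ i * σ) (fun σ _ => ?_) (fun σ _ _ h => ?_)
      (fun σ _ => Finset.mem_univ _) (fun σ _ => by rw [← mul_assoc, Equiv.swap_mul_self, one_mul])
    · rw [mul_inv_rev, Equiv.swap_inv, Equiv.Perm.sign_mul, Equiv.Perm.sign_swap hne.symm]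
      simp only [Equiv.Perm.mul_apply, Equiv.swap_apply_left, Equiv.swap_apply_right]
      rw [hsym i hne (σ⁻¹ i) (σ⁻¹ i₀), show ∏ j ∈ (univ.erase i₀).erase i, a j (σ⁻¹ (Equiv.swap i₀ i j)) =
        ∏ j ∈ (univ.erase i₀).erase i, a j (σ⁻¹ j) from Finset.prod_congr rfl fun j hj => by
          rw [Finset.mem_erase, Finset.mem_erase] at hj
          rw [Equiv.swap_apply_of_ne_of_ne hj.2.1 hj.1]]
      push_cast
      ring
    · have h' := congrArg (fun τ : Equiv.Perm (Fin n) => τ * σ⁻¹) h
      simp only [mul_assoc, mul_inv_cancel, mul_one] at h'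
      exact hne (Equiv.swap_eq_one_iff.1 h').symm
  have h2 : ∀ σ : Equiv.Perm (Fin n), ((Equiv.Perm.sign σ : ℤ) : A) * (δ (σ⁻¹ i₀) f * ∏ i ∈ univ.erase i₀, a i (σ⁻¹ i)) =
      δ (σ⁻¹ i₀) (f * P σ) - f * δ (σ⁻¹ i₀) (P σ) := fun σ => by
    rw [Derivation.leibniz, smul_eq_mul, smul_eq_mul]
    simp only [P]
    ring
  rw [Finset.sum_congr rfl fun σ _ => h2 σ, Finset.sum_sub_distrib, ← Finset.mul_sum, key, mul_zero, sub_zero, map_sum]
  exact Finset.sum_eq_zero fun σ _ => hL _ _

include hL in
theorem L_det_add_grad (T f : Fin n → A) (hT : ∀ i j, i ≠ j → δ j (T i) = 0)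
    (hcomm : ∀ j l x, δ j (δ l x) = δ l (δ j x)) :
    Lf (Matrix.of fun i j : Fin n => (if i = j then T i else 0) + δ j (f i)).det = Lf (∏ i, T i) := by
  classical
  let N : Finset (Fin n) → Matrix (Fin n) (Fin n) A := fun S =>
    Matrix.of fun i j => (if i = j then T i else 0) + (if i ∈ S then δ j (f i) else 0)
  suffices H : ∀ S, Lf (N S).det = Lf (∏ i, T i) by simpa [N] using H univ
  intro S
  induction S using Finset.induction_on with
  | empty =>
    rw [show N ∅ = Matrix.diagonal T from Matrix.ext fun i j => by simp [N, Matrix.diagonal_apply], Matrix.det_diagonal]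
  | insert i₀ S hi₀ ih =>
    have e : N (insert i₀ S) = (N S).updateRow i₀ ((N S) i₀ + fun j => δ j (f i₀)) := by
      refine Matrix.ext fun i j => ?_
      by_cases h : i = i₀
      · subst h
        simp [N, hi₀]
      · simp [N, Matrix.updateRow_ne h, h]
    rw [e, Matrix.det_updateRow_add, Matrix.updateRow_eq_self, map_add, ih,
      L_det_updateRow_grad δ Lf hL (N S) i₀ (f i₀) fun i _ j l => ?_, add_zero]
    simp only [N, Matrix.of_apply, map_add, apply_ite (δ j), apply_ite (δ l), map_zero]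
    congr 1
    · by_cases hjl : j = l
      · subst hjl; rfl
      · by_cases hi : i = l
        · rw [if_pos hi, if_neg (fun h => hjl (h.symm.trans hi)), hT i j (fun h => hjl (h.symm.trans hi))]
        · rw [if_neg hi]
          by_cases hij : i = j
          · rw [if_pos hij, hT i l hi]
          · rw [if_neg hij]
    · by_cases hiS : i ∈ S
      · rw [if_pos hiS, if_pos hiS]; exact hcomm _ _ _
      · rw [if_neg hiS, if_neg hiS]

end Div

end Groth.Agent.FrobDet31
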