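import Groth.Agent.FrobDet31.Det
import Mathlib

/-! The determinant of `dΦ / p` in coordinates with a basis of differentials. -/

set_option autoImplicit false
universe u v

namespace Groth.Agent.FrobDet31

variable {k : Type u} [Field k] {A : Type v} [CommRing A] [Algebra k A]
  {n : ℕ} (t : Fin n → A) (b : Module.Basis (Fin n) A (KaehlerDifferential k A))
  (hb : ∀ i, b i = KaehlerDifferential.D k A (t i))

/-- `∂ / ∂ t_j` -/
noncomputable def pd (j : Fin n) : Derivation k A A := (b.coord j).compDer (KaehlerDifferential.D k A)

include hb in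
theorem pd_t (i j : Fin n) : pd b j (t i) = if i = j then 1 else 0 := by
  show b.coord j (KaehlerDifferential.D k A (t i)) = _
  rw [← hb, Module.Basis.coord_apply, Module.Basis.repr_self, Finsupp.single_apply]

include hb in
theorem der_eq_zero (d : Derivation k A A) (h : ∀ i, d (t i) = 0) (x : A) : d x = 0 := by
  have h1 : d.liftKaehlerDifferential = 0 := b.ext fun i => by
    rw [hb, Derivation.liftKaehlerDifferential_comp_D, h, LinearMap.zero_apply]
  rw [← d.liftKaehlerDifferential_comp_D, h1, LinearMap.zero_apply]

include hb in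
theorem pd_comm (j l : Fin n) (x : A) : pd b j (pd b l x) = pd b l (pd b j x) := by
  have h := der_eq_zero t b hb ⁅pd b j, pd b l⁆ (fun i => by
    rw [Derivation.commutator_apply, pd_t t b hb, pd_t t b hb]
    split_ifs <;> simp) x
  rwa [Derivation.commutator_apply, sub_eq_zero] at h

theorem pow_p_leibniz (p : ℕ) [Fact p.Prime] [CharP k p] [Nontrivial A] (d : Derivation k A A) (x y : A) :
    (d.toLinearMap ^ p) (x * y) = x * (d.toLinearMap ^ p) y + (d.toLinearMap ^ p) x * y := by
  have : FaithfulSMul k A := (faithfulSMul_iff_algebraMap_injective k A).2 (algebraMap k A).injective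
  let E := Module.End k A
  have : CharP (Module.End k E) p := charP_of_injective_ringHom (algebraMap k (Module.End k E)).injective p
  have : ExpChar (Module.End k E) p := .prime Fact.out
  let D : E := d.toLinearMap
  let ad : Module.End k E := LinearMap.mulLeft k D - LinearMap.mulRight k D
  have hp : ad ^ p = LinearMap.mulLeft k (D ^ p) - LinearMap.mulRight k (D ^ p) := by
    have hc : Commute (LinearMap.mulLeft k D : Module.End k E) (LinearMap.mulRight k D) := LinearMap.commute_mulLeft_right D D
    have := sub_pow_char_of_commute (R := Module.End k E) p hc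
    rw [LinearMap.pow_mulLeft, LinearMap.pow_mulRight] at this
    exact this
  have had : ∀ m, (ad ^ m) (LinearMap.mulLeft k x) = LinearMap.mulLeft k ((D ^ m) x) := by
    intro m
    induction m with
    | zero => rfl
    | succ m ih =>
      rw [pow_succ', Module.End.mul_apply, ih]
      refine LinearMap.ext fun z => ?_
      show d ((D ^ m) x * z) - (D ^ m) x * d z = (D ^ (m + 1)) x * z
      rw [pow_succ', Module.End.mul_apply, Derivation.leibniz, smul_eq_mul, smul_eq_mul]
      show _ = d ((D ^ m) x) * z
      ring
  have h := LinearMap.congr_fun (had p) y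
  rw [hp] at h
  change (D ^ p) (x * y) - x * (D ^ p) y = (D ^ p) x * y at h
  show (D ^ p) (x * y) = x * (D ^ p) y + (D ^ p) x * y
  rw [← h]
  ring

variable (p : ℕ) [Fact p.Prime] [CharP k p] [Nontrivial A]

include hb in
theorem pd_pow_p (j : Fin n) (x : A) : ((pd b j).toLinearMap ^ p) x = 0 := by
  let d : Derivation k A A := Derivation.mk' ((pd b j).toLinearMap ^ p) fun u v => by
    rw [pow_p_leibniz p, smul_eq_mul, smul_eq_mul]; ring
  refine der_eq_zero t b hb d (fun i => ?_) x
  obtain ⟨q, hq⟩ : ∃ q, p = q + 1 + 1 := ⟨p - 2, by have := (Fact.out : p.Prime).two_le; omega⟩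
  show ((pd b j).toLinearMap ^ p) (t i) = 0
  rw [hq, pow_succ, pow_succ, Module.End.mul_apply, Module.End.mul_apply]
  show ((pd b j).toLinearMap ^ q) (pd b j (pd b j (t i))) = 0
  rw [pd_t t b hb]
  split_ifs <;> simp

/-- the operator `∏ ∂_j ^ (p-1)` over a list -/
noncomputable def op (l : List (Fin n)) : Module.End k A := (l.map fun j => (pd b j).toLinearMap ^ (p - 1)).prod

include hb in
theorem commute_op (j : Fin n) (l : List (Fin n)) : Commute (pd b j).toLinearMap (op b p l) := by
  refine Commute.list_prod_right _ _ fun x hx => ?_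
  obtain ⟨i, -, rfl⟩ := List.mem_map.1 hx
  exact Commute.pow_right (LinearMap.ext fun z => pd_comm t b hb j i z) _

include hb in
theorem op_pd : ∀ (l : List (Fin n)) (j : Fin n), j ∈ l → ∀ x, op b p l (pd b j x) = 0 := by
  intro l
  induction l with
  | nil => intro j hj; exact absurd hj List.not_mem_nil
  | cons i l ih =>
    intro j hj x
    show ((pd b i).toLinearMap ^ (p - 1) * op b p l) (pd b j x) = 0
    rcases List.mem_cons.1 hj with rfl | hj
    · show ((pd b j).toLinearMap ^ (p - 1) * op b p l * (pd b j).toLinearMap) x = 0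
      rw [mul_assoc, ← (commute_op t b hb p j l).eq, ← mul_assoc, ← pow_succ,
        Nat.sub_add_cancel (Fact.out : p.Prime).one_le, Module.End.mul_apply]
      exact pd_pow_p t b hb p j _
    · rw [Module.End.mul_apply, ih j hj, map_zero]

include hb in
theorem pd_pow_monomial (j : Fin n) (r : A) (hr : pd b j r = 0) (e : ℕ) :
    ∀ m, ((pd b j).toLinearMap ^ m) (t j ^ e * r) = (e.descFactorial m : A) * (t j ^ (e - m) * r) := by
  intro m
  induction m with
  | zero => simp
  | succ m ih =>
    rw [pow_succ', Module.End.mul_apply, ih]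
    show pd b j _ = _
    rw [Derivation.leibniz, Derivation.leibniz, hr, Derivation.leibniz_pow, Derivation.map_natCast, pd_t t b hb, if_pos rfl,
      Nat.descFactorial_succ, Nat.sub_sub]
    simp only [smul_eq_mul, nsmul_eq_mul, smul_zero, mul_zero, add_zero, zero_add, mul_one]
    push_cast
    ring

include hb in
theorem op_monomial : ∀ (l : List (Fin n)), l.Nodup →
    op b p l (∏ i, t i ^ (p - 1)) = (((p - 1).factorial : A)) ^ l.length * ∏ i ∈ Finset.univ \ l.toFinset, t i ^ (p - 1) := by
  classical
  intro l
  induction l with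
  | nil => intro _; simp [op]
  | cons j l ih =>
    intro hnd
    obtain ⟨hj, hnd⟩ := List.nodup_cons.1 hnd
    show ((pd b j).toLinearMap ^ (p - 1)) (op b p l _) = _
    rw [ih hnd]
    have hsp : Finset.univ \ l.toFinset = insert j (Finset.univ \ (j :: l).toFinset) := by
      ext i
      by_cases h : i = j <;> simp [h, hj]
    have hnot : j ∉ Finset.univ \ (j :: l).toFinset := by simp
    rw [hsp, Finset.prod_insert hnot, mul_left_comm]
    rw [pd_pow_monomial t b hb j _ ?_ (p - 1) (p - 1), Nat.descFactorial_self, Nat.sub_self, pow_zero, one_mul,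
      List.length_cons, pow_succ']
    · ring
    · rw [Derivation.leibniz, derivation_prod, Derivation.leibniz_pow, Derivation.map_natCast]
      simp only [smul_eq_mul, mul_zero, smul_zero, add_zero]
      refine mul_eq_zero_of_right _ (Finset.sum_eq_zero fun i hi => ?_)
      rw [Derivation.leibniz_pow, pd_t t b hb, if_neg (show i ≠ j from fun h => hnot (h ▸ hi))]
      simp

include hb in
theorem det_ne_zero (f : Fin n → A) :
    (Matrix.of fun i j : Fin n => (if i = j then t i ^ (p - 1) else 0) + b.coord j (KaehlerDifferential.D k A (f i))).det ≠ 0 := by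
  classical
  intro h0
  have hkey := L_det_add_grad (pd b) (op b p (List.finRange n))
    (fun j x => op_pd t b hb p _ j (List.mem_finRange j) x) (fun i => t i ^ (p - 1)) f
    (fun i j hij => by rw [Derivation.leibniz_pow, pd_t t b hb, if_neg hij]; simp) (pd_comm t b hb)
  change op b p (List.finRange n) (Matrix.of fun i j : Fin n => (if i = j then t i ^ (p - 1) else 0) + b.coord j (KaehlerDifferential.D k A (f i))).det = _ at hkey
  rw [h0, map_zero, op_monomial t b hb p _ (List.nodup_finRange n)] at hkey
  rw [show Finset.univ \ (List.finRange n).toFinset = (∅ : Finset (Fin n)) by simp, Finset.prod_empty, mul_one] at hkey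
  have : ((p - 1).factorial : k) ≠ 0 := by
    rw [Ne, CharP.cast_eq_zero_iff k p]
    intro hd
    have := ((Fact.out : p.Prime).dvd_factorial).1 hd
    have := (Fact.out : p.Prime).two_le
    omega
  rw [← map_natCast (algebraMap k A), ← map_pow] at hkey
  exact this (pow_eq_zero_iff'.1 ((algebraMap k A).injective (hkey.symm.trans (map_zero _).symm))).1

end Groth.Agent.FrobDet31
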